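import Mathlib

/-!
# Homomorphisms onto groups containing the alternating group
-/

set_option autoImplicit false

namespace CfsgLib.Sims60

open Subgroup Equiv

variable {n : ℕ}

/-- Small helper: a 3-cycle moving `x` to `y` and fixing `o`. -/
theorem exists_alt_move (hn : 4 ≤ n) {o x y : Fin n} (hx : x ≠ o) (hy : y ≠ o) :
    ∃ σ ∈ alternatingGroup (Fin n), σ o = o ∧ σ x = y := by
  by_cases hxy : x = y
  · exact ⟨1, one_mem _, by simp, by simpa using hxy⟩
  obtain ⟨z, -, hz⟩ := Finset.exists_mem_notMem_of_card_lt_card (t := Finset.univ) (s := {o, x, y})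
    (by rw [Finset.card_univ, Fintype.card_fin]; exact (Finset.card_le_three).trans_lt (by omega))
  simp only [Finset.mem_insert, Finset.mem_singleton, not_or] at hz
  refine ⟨swap x z * swap x y, ?_, ?_, ?_⟩
  · simp [Perm.mem_alternatingGroup, Perm.sign_swap hxy, Perm.sign_swap (Ne.symm hz.2.1)]
  · simp [Perm.mul_apply, swap_apply_of_ne_of_ne, Ne.symm hx, Ne.symm hy, Ne.symm hz.1]
  · simp [Perm.mul_apply, swap_apply_of_ne_of_ne (Ne.symm hxy) (Ne.symm hz.2.2)]

theorem centralizer_alternating (hn : 4 ≤ n) :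
    centralizer (alternatingGroup (Fin n) : Set (Perm (Fin n))) = ⊥ := by
  rw [eq_bot_iff_forall]
  intro c hc
  ext a
  by_contra hne
  obtain ⟨z, -, hz⟩ := Finset.exists_mem_notMem_of_card_lt_card (t := Finset.univ) (s := {c a, a})
    (by rw [Finset.card_univ, Fintype.card_fin]; exact (Finset.card_le_two).trans_lt (by omega))
  simp only [Finset.mem_insert, Finset.mem_singleton, not_or] at hz
  obtain ⟨σ, hσ, h1, h2⟩ := exists_alt_move hn (o := a) (x := c a) (y := z)
    (fun h => hne (congrArg Fin.val h)) hz.2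
  have := congrArg (fun p : Perm (Fin n) => p a) (mem_centralizer_iff.1 hc σ hσ)
  simp only [Perm.mul_apply, h1, h2] at this
  exact hz.1 this

theorem le_of_normal (hn : 5 ≤ n) {R N : Subgroup (Perm (Fin n))}
    (hR : alternatingGroup (Fin n) ≤ R) (hnorm : R ≤ normalizer (N : Set (Perm (Fin n))))
    (hN : N ≠ ⊥) : alternatingGroup (Fin n) ≤ N := by
  haveI := alternatingGroup.isSimpleGroup (α := Fin n) (by simpa using hn)
  haveI : (N.subgroupOf (alternatingGroup (Fin n))).Normal := by
    refine ⟨fun x hx a => ?_⟩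
    exact (mem_normalizer_iff.1 (hnorm (hR a.2)) (x : Perm (Fin n))).1 hx
  rcases (inferInstance : (N.subgroupOf (alternatingGroup (Fin n))).Normal).eq_bot_or_eq_top with
    h | h
  · refine absurd ?_ hN
    rw [eq_bot_iff, ← centralizer_alternating (n := n) (by omega)]
    intro x hx
    rw [mem_centralizer_iff]
    intro a ha
    have hm : a * x * a⁻¹ * x⁻¹ ∈ N :=
      mul_mem ((mem_normalizer_iff.1 (hnorm (hR ha)) x).1 hx) (inv_mem hx)
    have hm2 : a * x * a⁻¹ * x⁻¹ ∈ alternatingGroup (Fin n) := by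
      simp [Perm.mem_alternatingGroup, Perm.mem_alternatingGroup.1 ha]
    have := disjoint_def.1 (subgroupOf_eq_bot.1 h) hm hm2
    rw [mul_inv_eq_one, mul_inv_eq_iff_eq_mul] at this
    exact this
  · exact subgroupOf_eq_top.1 h

theorem le_of_factorial_le (hn : 2 ≤ n) {R : Subgroup (Perm (Fin n))}
    (h : Nat.factorial n ≤ 2 * Nat.card R) : alternatingGroup (Fin n) ≤ R := by
  have h1 := card_mul_index R
  rw [Nat.card_perm, Nat.card_fin] at h1
  have hle : R.index ≤ 2 := Nat.le_of_mul_le_mul_left (h1.le.trans (h.trans (Nat.mul_comm _ _).le))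
    (Nat.card_pos (α := R))
  have hne : R.index ≠ 0 := index_ne_zero_of_finite
  rcases (show R.index = 1 ∨ R.index = 2 by omega) with h2 | h2
  · rw [index_eq_one.1 h2]; exact le_top
  · exact (Perm.eq_alternatingGroup_of_index_eq_two h2).ge

theorem factorial_le_two_mul (hn : 2 ≤ n) {R : Subgroup (Perm (Fin n))}
    (h : alternatingGroup (Fin n) ≤ R) : Nat.factorial n ≤ 2 * Nat.card R := by
  haveI : Nontrivial (Fin n) := Fin.nontrivial_iff_two_le.2 hn
  calc Nat.factorial n = 2 * Nat.card (alternatingGroup (Fin n)) := by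
        rw [two_mul_nat_card_alternatingGroup, Nat.card_perm, Nat.card_fin]
    _ ≤ 2 * Nat.card R := Nat.mul_le_mul_left _ (Nat.le_of_dvd Nat.card_pos (card_dvd_of_le h))

variable {X : Type*} [Group X]

theorem map_eq_bot_or_le (hn : 5 ≤ n) (φ : X →* Perm (Fin n))
    (hφ : alternatingGroup (Fin n) ≤ φ.range) (N : Subgroup X) [N.Normal] :
    N ≤ φ.ker ∨ alternatingGroup (Fin n) ≤ N.map φ := by
  by_cases h : N.map φ = ⊥
  · exact Or.inl ((map_eq_bot_iff N).1 h)
  · refine Or.inr (le_of_normal hn hφ ?_ h)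
    refine le_trans (le_of_eq ?_) (le_normalizer_map φ)
    rw [normalizer_eq_top, MonoidHom.range_eq_map]

/-- A finite family of normal subgroups with trivial intersection: one lies in the kernel. -/
theorem exists_le_ker (hn : 5 ≤ n) (φ : X →* Perm (Fin n))
    (hφ : alternatingGroup (Fin n) ≤ φ.range) {ι : Type*} [Fintype ι] (N : ι → Subgroup X)
    (hN : ∀ i, (N i).Normal) (hbot : ∀ x, (∀ i, x ∈ N i) → x = 1) : ∃ i, N i ≤ φ.ker := by
  classical
  by_contra hno
  push Not at hno
  have key : ∀ s : Finset ι, alternatingGroup (Fin n) ≤ (⨅ i ∈ s, N i).map φ := by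
    intro s
    induction s using Finset.induction_on with
    | empty => simpa [← MonoidHom.range_eq_map] using hφ
    | @insert i s hi ih =>
      haveI := hN i
      rw [Finset.iInf_insert]
      set M := ⨅ j ∈ s, N j
      haveI : M.Normal := normal_iInf_normal fun j => normal_iInf_normal fun _ => hN j
      calc alternatingGroup (Fin n)
          = ⁅alternatingGroup (Fin n), alternatingGroup (Fin n)⁆ :=
            (commutator_alternatingGroup_eq_self (by simpa using hn)).symm
        _ ≤ ⁅(N i).map φ, M.map φ⁆ :=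
            commutator_mono ((map_eq_bot_or_le hn φ hφ (N i)).resolve_left (hno i)) ih
        _ = ⁅N i, M⁆.map φ := (map_commutator _ _ φ).symm
        _ ≤ (N i ⊓ M).map φ := map_mono (commutator_le_inf _ _)
  have h := key Finset.univ
  have hb : (⨅ i ∈ (Finset.univ : Finset ι), N i) = ⊥ := (eq_bot_iff_forall _).2 fun x hx =>
    hbot x fun i => mem_iInf.1 (mem_iInf.1 hx i) (Finset.mem_univ _)
  rw [hb, Subgroup.map_bot, le_bot_iff] at h
  have hc := centralizer_alternating (n := n) (by omega)
  rw [h, eq_bot_iff] at hc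
  haveI : Nontrivial (Fin n) := Fin.nontrivial_iff_two_le.2 (by omega)
  obtain ⟨a, b, hab⟩ := exists_pair_ne (Fin n)
  have h2 : swap a b ∈ (⊥ : Subgroup (Perm (Fin n))) := hc (mem_centralizer_iff.2 fun x hx => by
    rw [SetLike.mem_coe, mem_bot] at hx; simp [hx])
  exact hab (swap_eq_one_iff.1 (mem_bot.1 h2))

end CfsgLib.Sims60
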