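import Cfsg.Agent.ThompsonWielandt.Basic

/-!
# Wielandt's bound for a suborbit of a primitive group

For two conjugate subgroups `H ≠ K` with `H ⊓ K` of index `d` in `H`, each being the normaliser of
its non-trivial normal subgroups, the group `H` has a normal `p`-subgroup inside `K` of index
dividing `d! * ((d-1)!)^d`.
-/

set_option autoImplicit false

namespace CfsgLib.Sims60

open Cfsg Subgroup
open CfsgLib.ThompsonWielandt
open CfsgLib.LocalStructure (pResOf)

variable {G : Type*} [Group G] [Finite G]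

omit [Finite G] in
theorem index_normalCore_dvd (D : Subgroup G) [Finite (G ⧸ D)] :
    D.normalCore.index ∣ Nat.factorial D.index := by
  rw [normalCore_eq_ker, index_ker, index_eq_card, ← Nat.card_perm]
  exact card_subgroup_dvd_card _

omit [Finite G] in
theorem relIndex_dvd_of_le_normalizer {A C X : Subgroup G} (hC : C ≤ A)
    (hn : A ≤ normalizer (C : Set G)) (hX : X ≤ A) : C.relIndex X ∣ C.relIndex A := by
  haveI := (normal_subgroupOf_iff_le_normalizer hC).2 hn
  have h := relIndex_dvd_index_of_normal (C.subgroupOf A) (X.subgroupOf A)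
  rwa [relIndex_subgroupOf hX] at h

omit [Finite G] in
theorem relIndex_inf_biInf_dvd {ι : Type*} (C : ι → Subgroup G) (A : Subgroup G) (m : ℕ)
    (hC : ∀ i, C i ≤ A ∧ A ≤ normalizer (C i : Set G) ∧ (C i).relIndex A ∣ m) (s : Finset ι) :
    (A ⊓ ⨅ i ∈ s, C i).relIndex A ∣ m ^ s.card := by
  classical
  induction s using Finset.induction_on with
  | empty => simp
  | @insert i s hi ih =>
    rw [Finset.iInf_insert, Finset.card_insert_of_notMem hi, pow_succ,
      inf_left_comm A (C i) (⨅ x ∈ s, C x)]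
    set Y := A ⊓ ⨅ x ∈ s, C x
    rw [← relIndex_mul_relIndex (C i ⊓ Y) Y A inf_le_right inf_le_left, inf_relIndex_right,
      mul_comm (m ^ s.card)]
    exact mul_dvd_mul
      ((relIndex_dvd_of_le_normalizer (hC i).1 (hC i).2.1 inf_le_left).trans (hC i).2.2) ih

/-- The core of a subgroup between a normal subgroup and the stabiliser of a coset. -/
theorem index_normalCore_dvd_pow {A D E : Subgroup G} [A.Normal] (hEA : E ≤ A)
    (hAE : A ≤ normalizer (E : Set G)) (hDE : D ≤ normalizer (E : Set G)) {m : ℕ}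
    (hm : E.relIndex A ∣ m) : E.normalCore.index ∣ A.index * m ^ D.index := by
  classical
  haveI := Fintype.ofFinite (G ⧸ D)
  set C : G ⧸ D → Subgroup G := fun q => E.map (MulAut.conj q.out).toMonoidHom
  have hAc : ∀ g : G, A.map (MulAut.conj g).toMonoidHom = A := fun g =>
    mem_normalizer_iff_map_conj_eq.1 ((normalizer_eq_top_iff.2 ‹A.Normal›).ge (mem_top g))
  have hC : ∀ q, C q ≤ A ∧ A ≤ normalizer (C q : Set G) ∧ (C q).relIndex A ∣ m := by
    intro q
    refine ⟨(map_mono hEA).trans (hAc _).le, ?_, ?_⟩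
    · exact (hAc q.out).ge.trans ((map_mono hAE).trans (le_normalizer_map _))
    · rw [← hAc q.out, relIndex_map_map_of_injective _ _ (MulAut.conj q.out).injective]
      exact hm
  have hle : A ⊓ ⨅ q ∈ (Finset.univ : Finset (G ⧸ D)), C q ≤ E.normalCore := by
    intro x hx g
    obtain ⟨d, hd⟩ := QuotientGroup.mk_out_eq_mul D g⁻¹
    have hxq := mem_iInf.1 (mem_iInf.1 (mem_inf.1 hx).2 (QuotientGroup.mk g⁻¹)) (Finset.mem_univ _)
    obtain ⟨e, he, hex⟩ := mem_map.1 hxq
    have := (mem_normalizer_iff.1 (hDE d.2) e).1 he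
    convert this using 1
    rw [← hex, hd]
    simp [mul_assoc]
  have h1 := relIndex_inf_biInf_dvd C A m hC Finset.univ
  rw [Finset.card_univ, ← Nat.card_eq_fintype_card, ← index_eq_card] at h1
  refine (index_dvd_of_le hle).trans ?_
  rw [← relIndex_mul_index (inf_le_left : A ⊓ _ ≤ A), mul_comm]
  exact mul_dvd_mul_left _ h1

/-- The kernel of `H` on the cosets of `H ⊓ K`. -/
def core₁ (H K : Subgroup G) : Subgroup H := ((H ⊓ K).subgroupOf H).normalCore

/-- The next kernel. -/
def core₂ (H K : Subgroup G) : Subgroup H :=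
  (core₁ H K ⊓ ((core₁ K H).map K.subtype).subgroupOf H).normalCore

omit [Finite G] in
theorem core₁_map_le (H K : Subgroup G) : (core₁ H K).map H.subtype ≤ H ⊓ K := by
  rw [map_le_iff_le_comap]
  exact normalCore_le _

omit [Finite G] in
theorem le_normalizer_map_normal {H : Subgroup G} (N : Subgroup H) [N.Normal] :
    H ≤ normalizer (N.map H.subtype : Set G) := by
  refine le_trans (le_of_eq ?_) (le_normalizer_map _)
  rw [normalizer_eq_top, ← MonoidHom.range_eq_map, range_subtype]

omit [Finite G] in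
theorem core₂_map_le (H K : Subgroup G) :
    (core₂ H K).map H.subtype ≤ (core₁ K H).map K.subtype := by
  rw [map_le_iff_le_comap]
  exact (normalCore_le _).trans inf_le_right

theorem index_core₂_dvd {H K : Subgroup G} {d : ℕ} (hd : ((H ⊓ K).subgroupOf H).index = d)
    (hd' : ((K ⊓ H).subgroupOf K).index = d) :
    (core₂ H K).index ∣ Nat.factorial d * Nat.factorial (d - 1) ^ d := by
  set B := (core₁ K H).map K.subtype
  have hd0 : 0 < d := hd ▸ Nat.pos_of_ne_zero Subgroup.index_ne_zero_of_finite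
  have hA : (core₁ H K).index ∣ Nat.factorial d := hd ▸ index_normalCore_dvd _
  have hBD : B.relIndex (K ⊓ H) ∣ Nat.factorial (d - 1) := by
    have h : (core₁ K H).index ∣ Nat.factorial d := hd' ▸ index_normalCore_dvd _
    rw [← relIndex_mul_index (H := core₁ K H) (normalCore_le ((K ⊓ H).subgroupOf K)), hd'] at h
    rw [← Nat.mul_factorial_pred hd0.ne', mul_comm d] at h
    have h2 := Nat.dvd_of_mul_dvd_mul_right hd0 h
    rwa [show B.relIndex (K ⊓ H) = (core₁ K H).relIndex ((K ⊓ H).subgroupOf K) by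
      conv_lhs => rw [← map_subgroupOf_eq_of_le (inf_le_left : K ⊓ H ≤ K)]
      exact relIndex_map_map_of_injective _ _ K.subtype_injective]
  have hBn : K ⊓ H ≤ normalizer (B : Set G) := by
    haveI : (core₁ K H).Normal := normalCore_normal _
    exact inf_le_left.trans (le_normalizer_map_normal _)
  haveI hAn : (core₁ H K).Normal := normalCore_normal _
  set E := core₁ H K ⊓ B.subgroupOf H
  have hDB : (H ⊓ K).subgroupOf H ≤ normalizer (B.subgroupOf H : Set H) := by
    intro x hx
    rw [mem_normalizer_iff]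
    intro y
    exact mem_normalizer_iff.1 (hBn ⟨(mem_subgroupOf.1 hx).2, (mem_subgroupOf.1 hx).1⟩) (y : G)
  have hDE : (H ⊓ K).subgroupOf H ≤ normalizer (E : Set H) :=
    le_trans (le_inf ((normalizer_eq_top_iff.2 hAn).symm ▸ le_top) hDB)
      inf_normalizer_le_normalizer_inf
  have hEA : E.relIndex (core₁ H K) ∣ Nat.factorial (d - 1) := by
    have hle : (core₁ H K).map H.subtype ≤ K ⊓ H := (core₁_map_le H K).trans (inf_comm _ _).le
    show (core₁ H K ⊓ B.subgroupOf H).relIndex _ ∣ _
    rw [inf_comm, inf_relIndex_right, ← relIndex_map_map_of_injective _ _ H.subtype_injective,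
      subgroupOf_map_subtype, ← inf_relIndex_right, inf_assoc, inf_eq_right.2 (map_subtype_le _),
      inf_relIndex_right]
    exact (relIndex_dvd_of_le_normalizer (core₁_map_le K H) hBn hle).trans hBD
  have h := index_normalCore_dvd_pow (A := core₁ H K) inf_le_left
    ((normalCore_le _).trans hDE) hDE hEA
  rw [hd] at h
  exact h.trans (mul_dvd_mul_right hA _)

/-- Wielandt's bound. -/
theorem exists_pSubgroup {H K : Subgroup G} (e : H ≃* K) (hne : H ≠ K)
    (hH : ∀ S : Subgroup G, S ≤ H → S ≠ ⊥ → H ≤ normalizer (S : Set G) →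
      normalizer (S : Set G) ≤ H)
    (hK : ∀ S : Subgroup G, S ≤ K → S ≠ ⊥ → K ≤ normalizer (S : Set G) →
      normalizer (S : Set G) ≤ K)
    {d : ℕ} (hd : ((H ⊓ K).subgroupOf H).index = d) :
    ∃ (p : ℕ) (P : Subgroup H), p.Prime ∧ P.Normal ∧ IsPGroup p P ∧ P.map H.subtype ≤ K ∧
      P.index ∣ Nat.factorial d * Nat.factorial (d - 1) ^ d ∧
      (P = ⊥ ∨ generalizedFittingSubgroup H = pCore p H) := by
  have hd' : ((K ⊓ H).subgroupOf K).index = d := by
    have h1 := card_mul_index ((H ⊓ K).subgroupOf H)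
    have h2 := card_mul_index ((K ⊓ H).subgroupOf K)
    rw [Nat.card_congr (subgroupOfEquivOfLe (inf_le_left : H ⊓ K ≤ H)).toEquiv, hd] at h1
    rw [Nat.card_congr (subgroupOfEquivOfLe (inf_le_left : K ⊓ H ≤ K)).toEquiv, inf_comm K H,
      ← Nat.card_congr e.toEquiv, ← h1] at h2
    rw [inf_comm K H]
    exact Nat.eq_of_mul_eq_mul_left Nat.card_pos h2
  have hN : (core₂ H K).index ∣ Nat.factorial d * Nat.factorial (d - 1) ^ d :=
    index_core₂_dvd hd hd'
  have hN' : (core₂ K H).index ∣ Nat.factorial d * Nat.factorial (d - 1) ^ d :=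
    index_core₂_dvd hd' hd
  by_cases h1 : core₂ H K = ⊥
  · exact ⟨2, ⊥, Nat.prime_two, inferInstance, IsPGroup.of_bot, by simp, h1 ▸ hN, Or.inl rfl⟩
  by_cases h2 : core₂ K H = ⊥
  · refine ⟨2, ⊥, Nat.prime_two, inferInstance, IsPGroup.of_bot, by simp, ?_, Or.inl rfl⟩
    rw [h2, index_bot, ← Nat.card_congr e.toEquiv] at hN'
    rwa [index_bot]
  have hne' : ∀ {H : Subgroup G} {S : Subgroup H}, S ≠ ⊥ → S.map H.subtype ≠ ⊥ := fun {H S} h hb =>
    h ((map_eq_bot_iff_of_injective S H.subtype_injective).1 hb)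
  have mk : ∀ H K : Subgroup G, (∀ S : Subgroup G, S ≤ H → S ≠ ⊥ → H ≤ normalizer (S : Set G) →
      normalizer (S : Set G) ≤ H) → core₂ H K ≠ ⊥ →
      Half H K ((core₂ H K).map H.subtype) ((core₁ K H).map K.subtype) := by
    intro H K hH h
    haveI : (core₂ H K).Normal := normalCore_normal _
    haveI : (core₁ K H).Normal := normalCore_normal _
    exact ⟨hH, le_normalizer_map_normal _, hne' h, core₂_map_le H K,
      (core₁_map_le K H).trans (inf_comm _ _).le, le_normalizer_map_normal _,
      fun x hx hn => ⟨⟨x, hx⟩, fun n => ⟨(n * (⟨x, hx⟩ : K) * n⁻¹).2, hn n n.2⟩, rfl⟩⟩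
  obtain ⟨p, hp, hpg, hF, -⟩ := main (mk H K hH h1) (mk K H hK h2) hne e
  refine ⟨p, core₂ H K, hp, normalCore_normal _, ?_,
    (core₂_map_le H K).trans (map_subtype_le _), hN, Or.inr hF⟩
  exact IsPGroup.of_equiv (hpg.to_le le_sup_left)
    ((core₂ H K).equivMapOfInjective _ H.subtype_injective).symm

/-- If `O_q(H ⊓ K)` lies in the kernel on the cosets of `H ⊓ K` then it is trivial. -/
theorem pCoreOf_inf_eq_bot {H K : Subgroup G} (e : H ≃* K) (hne : H ≠ K)
    (hH : ∀ S : Subgroup G, S ≤ H → S ≠ ⊥ → H ≤ normalizer (S : Set G) →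
      normalizer (S : Set G) ≤ H)
    {q : ℕ} [Fact q.Prime] (hle : pCoreOf q (H ⊓ K) ≤ (core₁ H K).map H.subtype) :
    pCoreOf q (H ⊓ K) = ⊥ := by
  haveI : (core₁ H K).Normal := normalCore_normal _
  set P := pCoreOf q (H ⊓ K)
  set A := (core₁ H K).map H.subtype
  by_contra hP1
  have hAD : A ≤ H ⊓ K := core₁_map_le H K
  have hAn : H ≤ normalizer (A : Set G) := le_normalizer_map_normal _
  have heqA : pCoreOf q A = P := le_antisymm
    (LocalStructure.le_pCoreOf ((LocalStructure.pCoreOf_le A).trans hAD)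
      ((inf_le_left.trans hAn).trans (LocalStructure.normalizer_le_normalizer_pCoreOf A))
      (LocalStructure.pCoreOf_isPGroup A))
    (LocalStructure.le_pCoreOf hle (hAD.trans (LocalStructure.le_normalizer_pCoreOf _))
      (LocalStructure.pCoreOf_isPGroup _))
  have hHP : H ≤ normalizer (P : Set G) :=
    heqA ▸ hAn.trans (LocalStructure.normalizer_le_normalizer_pCoreOf A)
  have hPH : P ≤ H := (LocalStructure.pCoreOf_le _).trans inf_le_left
  have hPn : normalizer (P : Set G) ≤ H := hH P hPH hP1 hHP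
  set Q := pCoreOf q K
  have hQn : K ≤ normalizer (Q : Set G) := LocalStructure.le_normalizer_pCoreOf K
  set S := P ⊔ Q
  have hPK : P ≤ K := (LocalStructure.pCoreOf_le _).trans inf_le_right
  have hS : IsPGroup q S := (LocalStructure.pCoreOf_isPGroup _).to_sup_of_normal_right'
    (LocalStructure.pCoreOf_isPGroup K) (hPK.trans hQn)
  have hSK : S ≤ K := sup_le hPK (LocalStructure.pCoreOf_le K)
  have hDS : H ⊓ K ≤ normalizer (S : Set G) := by
    intro x hx
    have h1 := LocalStructure.le_normalizer_pCoreOf (p := q) (H ⊓ K) hx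
    have h2 := hQn hx.2
    rw [mem_normalizer_iff_map_conj_eq] at h1 h2 ⊢
    rw [Subgroup.map_sup, h1, h2]
  have hSD : S ⊓ (H ⊓ K) ≤ P :=
    LocalStructure.le_pCoreOf inf_le_right
      ((le_inf hDS le_normalizer).trans inf_normalizer_le_normalizer_inf) hS.to_inf_left
  have hSP : S ≤ P := by
    by_contra hlt
    haveI : Group.IsNilpotent S := hS.isNilpotent
    have hnc := Group.normalizerCondition_of_isNilpotent (G := S) (P.subgroupOf S)
      (lt_top_iff_ne_top.2 fun ht => hlt (subgroupOf_eq_top.1 ht))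
    refine hnc.2 fun x hx => hSD ⟨x.2, hPn ?_, hSK x.2⟩
    exact le_normalizer_of_subgroupOf (H := S) (X := zpowers (x : G)) (zpowers_le.2 x.2) le_sup_left
      (fun y hy => by
        obtain ⟨k, hk⟩ := mem_zpowers_iff.1 hy
        have : y = x ^ k := Subtype.ext (by simpa using hk.symm)
        rw [this]; exact zpow_mem hx k) (mem_zpowers _)
  have hQP : Q = P := eq_of_le_of_card_ge (le_sup_right.trans hSP) (by
    refine le_trans (Nat.le_of_dvd Nat.card_pos (card_dvd_of_le (LocalStructure.le_pCoreOf (p := q)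
      hPH hHP (LocalStructure.pCoreOf_isPGroup _)))) (card_pCoreOf_congr q e).le)
  have hKH : K ≤ H := (hQP ▸ hQn).trans hPn
  exact hne (eq_of_le_of_card_ge hKH (Nat.card_congr e.toEquiv).le).symm

/-- A group with `O_q = 1` for all primes `q` has trivial Fitting subgroup. -/
theorem fittingSubgroup_eq_bot (h : ∀ q : ℕ, q.Prime → pCore q G = ⊥) : fittingSubgroup G = ⊥ := by
  rw [fittingSubgroup, sSup_eq_bot]
  rintro N ⟨hN, hnil⟩
  by_contra hne
  obtain ⟨q, hq, hdvd⟩ := Nat.exists_prime_and_dvd (mt card_eq_one.1 hne)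
  haveI : Fact q.Prime := ⟨hq⟩
  obtain ⟨S⟩ : Nonempty (Sylow q N) := inferInstance
  have hSn : (S : Subgroup N).Normal := Sylow.normal_of_normalizerCondition
    Group.normalizerCondition_of_isNilpotent S
  have hSc : (S : Subgroup N).Characteristic := Sylow.characteristic_of_normal S hSn
  haveI : ((S : Subgroup N).map N.subtype).Normal := normalizer_eq_top_iff.mp
    (top_unique ((normalizer_eq_top_iff.mpr hN).ge.trans
      (CfsgLib.Components.normalizer_le_normalizer_map_subtype _ _)))
  have hb := LocalStructure.le_pCore (S.2.map N.subtype)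
  rw [h q hq, le_bot_iff] at hb
  exact S.ne_bot_of_dvd_card hdvd ((map_eq_bot_iff_of_injective _ N.subtype_injective).mp hb)

/-- The data of a suborbit of a primitive group. -/
theorem setting {Ω : Type*} [MulAction G Ω] [FaithfulSMul G Ω] [Finite Ω]
    (hprim : MulAction.IsPreprimitive G Ω) (a b : Ω) {d : ℕ}
    (hd : Nat.card (MulAction.orbit (MulAction.stabilizer G a) b) = d) (h2 : 2 ≤ d) :
    Nonempty (MulAction.stabilizer G a ≃* MulAction.stabilizer G b) ∧
    MulAction.stabilizer G a ≠ MulAction.stabilizer G b ∧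
    (∀ (x : Ω) (S : Subgroup G), S ≤ MulAction.stabilizer G x → S ≠ ⊥ →
      MulAction.stabilizer G x ≤ normalizer (S : Set G) →
      normalizer (S : Set G) ≤ MulAction.stabilizer G x) ∧
    ((MulAction.stabilizer G a ⊓ MulAction.stabilizer G b).subgroupOf
      (MulAction.stabilizer G a)).index = d := by
  classical
  have hstab : MulAction.stabilizer (MulAction.stabilizer G a) b =
      (MulAction.stabilizer G a ⊓ MulAction.stabilizer G b).subgroupOf
        (MulAction.stabilizer G a) := by
    ext x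
    simp [mem_subgroupOf, Subgroup.smul_def]
  have hindex : ((MulAction.stabilizer G a ⊓ MulAction.stabilizer G b).subgroupOf
      (MulAction.stabilizer G a)).index = d := by
    rw [← hstab, MulAction.index_stabilizer, ← hd, Nat.card_coe_set_eq]
  have hne : MulAction.stabilizer G a ≠ MulAction.stabilizer G b := by
    intro he
    rw [← he, inf_idem, subgroupOf_self, index_top] at hindex
    omega
  have hab : a ≠ b := fun he => hne (by rw [he])
  have : Nontrivial Ω := ⟨a, b, hab⟩
  obtain ⟨g, hg⟩ := MulAction.exists_smul_eq G a b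
  refine ⟨⟨?_⟩, hne, fun x S hS hS1 hn => ?_, hindex⟩
  · rw [← hg, MulAction.stabilizer_smul_eq_stabilizer_map_conj]
    exact (MulAction.stabilizer G a).equivMapOfInjective _ (MulAut.conj g).injective
  · rcases (MulAction.IsPreprimitive.isCoatom_stabilizer_of_isPreprimitive G x).le_iff.1 hn with
      h | h
    · refine absurd ((eq_bot_iff_forall S).2 fun s hs => eq_of_smul_eq_smul (α := Ω) fun y => ?_) hS1
      obtain ⟨k, rfl⟩ := MulAction.exists_smul_eq G x y
      have := (normalizer_eq_top_iff.1 h).conj_mem s hs k⁻¹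
      have hf := MulAction.mem_stabilizer_iff.1 (hS this)
      simpa [mul_smul, inv_smul_eq_iff] using hf
    · exact h.le

end CfsgLib.Sims60
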