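import Cfsg.Agent.Sims60.Knapp

/-!
# Knapp's theorem: the embedding of `H` in `Sym d × Sym (d-1)`
-/

set_option autoImplicit false

namespace CfsgLib.Sims60

open Cfsg Subgroup Equiv

variable {G : Type*} [Group G] [Finite G] {H K : Subgroup G} {d : ℕ}

namespace Conf

variable (c : Conf H K d)
include c

theorem core₂_eq_bot : core₂ H K = ⊥ ∧ core₂ K H = ⊥ :=
  c.cores.elim (fun h => ⟨h, c.core₂_eq_bot' h⟩) fun h => ⟨c.symm.core₂_eq_bot' h, h⟩

omit c in
theorem le_normalizer_inf_kern :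
    H ⊓ K ≤ normalizer ((kern H K ⊓ kern K H : Subgroup G) : Set G) :=
  (le_inf (inf_le_left.trans (le_normalizer_kern H K))
    (inf_le_right.trans (le_normalizer_kern K H))).trans inf_normalizer_le_normalizer_inf

/-- An element killed at every point but `j`, provided the two kernels meet non-trivially. -/
theorem exists_single (s : PreSide H K d) (hC : kern H K ⊓ kern K H ≠ ⊥) (j : Fin d) :
    ∃ a ∈ kern H K, ¬ s.Killed j a ∧ ∀ i ≠ j, s.Killed i a := by
  classical
  have hd := c.six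
  suffices h : ∃ a ∈ kern H K, ¬ s.Killed s.o a ∧ ∀ i ≠ s.o, s.Killed i a by
    obtain ⟨a, ha, hao, hai⟩ := h
    obtain ⟨t, ht⟩ := s.trans j
    refine ⟨(t : G) * a * (t : G)⁻¹, conj_mem_kern ha t.2, ?_, fun i hi => ?_⟩
    · rwa [← ht, s.killed_conj]
    · obtain ⟨i', rfl⟩ := (s.f t).surjective i
      rw [s.killed_conj]
      exact hai i' fun h => hi (by rw [h, ht])
  by_contra hno
  push Not at hno
  obtain ⟨s'⟩ := exists_preSide c.index'
  obtain ⟨r', hr', hr'big⟩ := c.symm.exists_stabHom s'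
  set ι : core₁ H K →* G := H.subtype.comp (core₁ H K).subtype
  have hι : ∀ x, ι x ∈ kern H K := fun x => ⟨(x : H), x.2, rfl⟩
  set ψ : core₁ H K →* Perm (Fin (d - 1)) := r'.comp (ι.codRestrict (K ⊓ H) fun x =>
    (inf_comm H K).le (core₁_map_le H K (hι x)))
  have hψ : alternatingGroup (Fin (d - 1)) ≤ ψ.range := by
    refine (c.symm.alt_le_map r' hr' hr'big).trans ?_
    rintro _ ⟨y, hy, rfl⟩
    obtain ⟨z, hz, hzy⟩ := mem_subgroupOf.1 hy
    exact ⟨⟨z, hz⟩, congrArg r' (Subtype.ext hzy)⟩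
  choose ρ hρ using fun i => s.exists_pull r' hr' ι hι i
  obtain ⟨⟨i, hi⟩, hle⟩ := exists_le_ker (by omega) ψ hψ
    (fun i : {i : Fin d // i ≠ s.o} => (ρ i).ker) (fun i => inferInstance) fun x hx =>
      Subtype.ext (Subtype.ext (s.eq_one_of_killed c.core₂_eq_bot.1 (hι x) fun i => by
        have h : ∀ i, i ≠ s.o → s.Killed i (ι x) := fun i hi => (hρ i x).1 (hx ⟨i, hi⟩)
        by_cases hio : i = s.o
        · subst hio
          by_contra hk
          obtain ⟨i, hi, hk'⟩ := hno (ι x) (hι x) hk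
          exact hk' (h i hi)
        · exact h i hio))
  obtain ⟨t, ht⟩ := s.trans i
  have htK : (t : G) ∉ K := fun h => hi (ht ▸ (s.stab t).2 h)
  set C := kern H K ⊓ kern K H
  have hmap : C.map (MulAut.conj (t : G)).toMonoidHom ≤ C := by
    rintro _ ⟨x, hx, rfl⟩
    have hA : (t : G) * x * (t : G)⁻¹ ∈ kern H K := conj_mem_kern hx.1 t.2
    obtain ⟨z, hz, hzx⟩ := hA
    refine ⟨conj_mem_kern hx.1 t.2, ?_⟩
    have hk : (⟨z, hz⟩ : core₁ H K) ∈ (ρ i).ker := MonoidHom.mem_ker.2 ((hρ i _).2 (by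
      rw [s.killed_iff ht]
      change (t : G)⁻¹ * ((z : H) : G) * t ∈ _
      rw [show ((z : H) : G) = (t : G) * x * (t : G)⁻¹ from hzx]
      simpa [mul_assoc] using hx.2))
    have := (hr' _).1 (MonoidHom.mem_ker.1 (hle hk))
    change (t : G) * x * (t : G)⁻¹ ∈ kern K H
    rw [← show ((z : H) : G) = (t : G) * x * (t : G)⁻¹ from hzx]
    exact this
  have htn : (t : G) ∈ normalizer (C : Set G) := mem_normalizer_iff_map_conj_eq.2
    (eq_of_le_of_card_ge hmap (card_map_of_injective (MulAut.conj (t : G)).injective).ge)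
  have hH := s.le_of_mem (c.range_big s) (by omega) le_normalizer_inf_kern htK htn
  refine hC ((eq_bot_iff_forall _).2 fun x hx => s.eq_one_of_killed c.core₂_eq_bot.1 hx.1 fun k => ?_)
  obtain ⟨u, hu⟩ := s.trans k
  rw [s.killed_iff hu]
  have h2 := ((mem_normalizer_iff.1 (hH (inv_mem u.2))) x).1 hx
  simpa using h2.2

theorem kern_inf_eq_bot : kern H K ⊓ kern K H = ⊥ := by
  by_contra hC
  obtain ⟨s⟩ := exists_preSide c.index
  obtain ⟨s'⟩ := exists_preSide c.index'
  obtain ⟨x, hxB, hxo, hxi⟩ := c.symm.exists_single s' (by rwa [inf_comm]) s'.o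
  rw [s'.killed_o] at hxo
  have hxD : x ∈ H ⊓ K := (inf_comm K H).le (core₁_map_le K H hxB)
  have hcen : ∀ y ∈ kern H K ⊓ kern K H, x * y = y * x := by
    intro y hy
    have hyD : y ∈ H ⊓ K := core₁_map_le H K hy.1
    have hm : x * y * x⁻¹ * y⁻¹ ∈ kern H K ⊓ kern K H :=
      mul_mem ((mem_normalizer_iff.1 (le_normalizer_inf_kern hxD) y).1 hy) (inv_mem hy)
    have h1 : x * y * x⁻¹ * y⁻¹ = 1 := s'.eq_one_of_killed c.core₂_eq_bot.2 hm.2 fun i => by
      by_cases hio : i = s'.o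
      · subst hio
        exact s'.killed_o.2 hm.1
      · have h2 : s'.Killed i (y * x⁻¹ * y⁻¹) := by
          obtain ⟨k, hk⟩ := (s'.f ⟨y, hyD.2⟩).surjective i
          rw [← hk]
          exact (s'.killed_conj ⟨y, hyD.2⟩).2 (s'.killed_inv (hxi k fun h => hio (by
            rw [← hk, h]; exact (s'.stab _).2 hyD.1)))
        have := s'.killed_mul (hxi i hio) h2
        simpa [mul_assoc] using this
    rw [mul_inv_eq_one, mul_inv_eq_iff_eq_mul] at h1
    exact h1
  refine hxo ((s.f_eq_one (h := ⟨x, hxD.1⟩)).1 (Equiv.ext fun j => ?_))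
  have hfo : s.f ⟨x, hxD.1⟩ s.o = s.o := (s.stab _).2 hxD.2
  by_cases hjo : j = s.o
  · subst hjo; simpa using hfo
  obtain ⟨a, ha, haj, hai⟩ := c.exists_single s hC j
  have haC : a ∈ kern H K ⊓ kern K H := ⟨ha, s.killed_o.1 (hai s.o (Ne.symm hjo))⟩
  by_contra hne
  refine haj ((s.killed_conj ⟨x, hxD.1⟩).1 ?_)
  have := hai _ hne
  rwa [show ((⟨x, hxD.1⟩ : H) : G) * a * ((⟨x, hxD.1⟩ : H) : G)⁻¹ = a by
    rw [show ((⟨x, hxD.1⟩ : H) : G) = x from rfl, hcen a haC, mul_inv_cancel_right]]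

/-- `H` embeds in `Sym d × Sym (d-1)`. -/
theorem exists_embedding : ∃ Φ : H →* Perm (Fin d) × Perm (Fin (d - 1)), Function.Injective Φ ∧
    (alternatingGroup (Fin d)).prod (alternatingGroup (Fin (d - 1))) ≤ Φ.range ∧
    (2 * (core₁ H K).index = Nat.factorial d →
      Φ.range ≤ (alternatingGroup (Fin d)).prod (alternatingGroup (Fin (d - 1)))) ∧
    ((core₁ H K).index = Nat.factorial d →
      (∀ σ, ∃ h, (Φ h).1 = σ) ∧ ∀ τ, ∃ h, (Φ h).2 = τ) := by
  classical
  have hd := c.six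
  obtain ⟨s⟩ := exists_preSide c.index
  obtain ⟨s'⟩ := exists_preSide c.index'
  obtain ⟨r, hr, hrbig⟩ := c.exists_stabHom s
  obtain ⟨r₀, hr₀, hr₀big⟩ := c.symm.exists_stabHom s'
  have hAB := c.kern_inf_eq_bot
  have hbigf := c.range_big s
  set A := kern H K
  set B := kern K H
  have hAD : A ≤ H ⊓ K := core₁_map_le H K
  have hBD : B ≤ H ⊓ K := (core₁_map_le K H).trans (inf_comm K H).le
  have hBA : ∀ b ∈ B, b ∈ centralizer (A : Set G) := fun b hb => mem_centralizer_iff.2 fun a ha => by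
    have h1 : b * a * b⁻¹ * a⁻¹ ∈ A :=
      mul_mem (conj_mem_kern ha (hBD hb).1) (inv_mem ha)
    have h2 : b * a * b⁻¹ * a⁻¹ ∈ B := by
      have := mul_mem hb (conj_mem_kern (inv_mem hb) (hAD ha).2)
      simpa [mul_assoc] using this
    have := disjoint_def.1 (disjoint_iff.2 hAB) h1 h2
    rw [mul_inv_eq_one, mul_inv_eq_iff_eq_mul] at this
    exact this.symm
  set N : Subgroup H := (centralizer (A : Set G)).subgroupOf H
  haveI hN : N.Normal := ⟨fun n hn g => by
    refine mem_centralizer_iff.2 fun a ha => ?_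
    have : ((g : G)⁻¹ * a * g) * (n : G) = (n : G) * ((g : G)⁻¹ * a * g) :=
      mem_centralizer_iff.1 hn _ (conj_mem_kern' ha g.2)
    push_cast
    calc a * ((g : G) * n * (g : G)⁻¹) = g * ((g : G)⁻¹ * a * g * n) * (g : G)⁻¹ := by group
      _ = g * (n * ((g : G)⁻¹ * a * g)) * (g : G)⁻¹ := by rw [this]
      _ = (g : G) * n * (g : G)⁻¹ * a := by group⟩
  have hNf : alternatingGroup (Fin d) ≤ N.map s.f := by
    refine (map_eq_bot_or_le (by omega) s.f hbigf N).resolve_left fun h => c.kern_not_le fun b hb => ?_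
    exact (s.f_eq_one (h := ⟨b, (hBD hb).1⟩)).1
      (MonoidHom.mem_ker.1 (h (mem_subgroupOf.2 (hBA b hb))))
  set rB : ↥(H ⊓ K) →* Perm (Fin (d - 1)) := r₀.comp (inclusion (inf_comm H K).le)
  have hrB : ∀ x, rB x = 1 ↔ (x : G) ∈ B := fun x => hr₀ _
  have hrBA : alternatingGroup (Fin (d - 1)) ≤ (A.subgroupOf (H ⊓ K)).map rB := by
    refine (c.symm.alt_le_map r₀ hr₀ hr₀big).trans ?_
    rintro _ ⟨y, hy, rfl⟩
    exact ⟨inclusion (inf_comm K H).le y, hy, congrArg r₀ (Subtype.ext rfl)⟩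
  have hND : ∀ x : ↥(H ⊓ K), (x : G) ∈ centralizer (A : Set G) → rB x = 1 := by
    intro x hx
    rw [← mem_bot, ← centralizer_alternating (n := d - 1) (by omega), mem_centralizer_iff]
    intro σ hσ
    obtain ⟨a, ha, rfl⟩ := hrBA hσ
    rw [← map_mul, ← map_mul]
    exact congrArg rB (Subtype.ext (mem_centralizer_iff.1 hx a ha))
  have hex : ∀ h : H, ∃ x : ↥(H ⊓ K), (⟨x, x.2.1⟩ : H)⁻¹ * h ∈ N := by
    intro h
    by_cases hK : (h : G) ∈ K
    · exact ⟨⟨h, h.2, hK⟩, by simp⟩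
    obtain ⟨z, -, hz⟩ := Finset.exists_mem_notMem_of_card_lt_card (t := Finset.univ)
      (s := {s.o, s.f h⁻¹ s.o})
      (by rw [Finset.card_univ, Fintype.card_fin]; exact (Finset.card_le_two).trans_lt (by omega))
    simp only [Finset.mem_insert, Finset.mem_singleton, not_or] at hz
    obtain ⟨σ, hσ, -, h2⟩ := exists_alt_move (n := d) (by omega) (o := z) (x := s.o)
      (y := s.f h⁻¹ s.o) (Ne.symm hz.1) (Ne.symm hz.2)
    obtain ⟨n, hn, rfl⟩ := hNf hσ
    refine ⟨⟨(h * n : H), (h * n).2, (s.stab _).1 ?_⟩, ?_⟩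
    · rw [map_mul, Perm.mul_apply, h2, map_inv, Perm.inv_def, Equiv.apply_symm_apply]
    · change (h * n)⁻¹ * h ∈ N
      simpa using inv_mem hn
  choose sec hsec using hex
  have hwd : ∀ (h : H) (x : ↥(H ⊓ K)), (⟨x, x.2.1⟩ : H)⁻¹ * h ∈ N → rB (sec h) = rB x := by
    intro h x hx
    have hm : (⟨x, x.2.1⟩ : H)⁻¹ * ⟨sec h, (sec h).2.1⟩ ∈ N := by
      have := mul_mem hx (inv_mem (hsec h))
      simpa [mul_assoc] using this
    have := hND (x⁻¹ * sec h) (by simpa [N, mem_subgroupOf] using hm)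
    rw [map_mul, map_inv, inv_mul_eq_one] at this
    exact this.symm
  let ψ : H →* Perm (Fin (d - 1)) := MonoidHom.mk' (fun h => rB (sec h)) fun h k => by
    rw [← map_mul]
    refine hwd _ _ ?_
    have := mul_mem (hN.conj_mem _ (hsec h) (⟨sec k, (sec k).2.1⟩ : H)⁻¹) (hsec k)
    convert this using 1
    rw [show (⟨((sec h * sec k : ↥(H ⊓ K)) : G), (sec h * sec k).2.1⟩ : H)
      = ⟨sec h, (sec h).2.1⟩ * ⟨sec k, (sec k).2.1⟩ from rfl]
    group
  have hψD : ∀ x : ↥(H ⊓ K), ψ ⟨x, x.2.1⟩ = rB x := fun x => hwd _ x (by simp)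
  have hψN : ∀ n ∈ N, ψ n = 1 := fun n hn => by
    refine (hwd n 1 ?_).trans (map_one _)
    change (1 : H)⁻¹ * n ∈ N
    rwa [inv_one, one_mul]
  refine ⟨s.f.prod ψ, ?_, ?_, ?_, ?_⟩
  · rw [← MonoidHom.ker_eq_bot_iff, eq_bot_iff_forall]
    intro h hh
    rw [MonoidHom.mem_ker, MonoidHom.prod_apply, Prod.mk_eq_one] at hh
    have hA : (h : G) ∈ A := s.f_eq_one.1 hh.1
    have hB := (hrB ⟨h, hAD hA⟩).1 ((hψD _).symm.trans hh.2)
    exact Subtype.ext (disjoint_def.1 (disjoint_iff.2 hAB) hA hB)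
  · rintro ⟨σ, τ⟩ hστ
    obtain ⟨hσ, hτ⟩ := Subgroup.mem_prod.1 hστ
    obtain ⟨n, hn, hnσ⟩ := hNf hσ
    obtain ⟨a, ha, haτ⟩ := hrBA hτ
    refine ⟨n * ⟨a, a.2.1⟩, Prod.ext ?_ ?_⟩
    · change s.f (n * _) = σ
      rw [map_mul, (s.f_eq_one (h := ⟨a, a.2.1⟩)).2 ha, mul_one, hnσ]
    · change ψ (n * _) = τ
      rw [map_mul, hψN n hn, one_mul, hψD, haτ]
  · intro hidx
    have hcard : ∀ (n : ℕ) (R : Subgroup (Perm (Fin n))), 2 ≤ n → alternatingGroup (Fin n) ≤ R →
        2 * Nat.card R ≤ Nat.factorial n → R = alternatingGroup (Fin n) := fun n R hn h1 h2 => by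
      haveI : Nontrivial (Fin n) := Fin.nontrivial_iff_two_le.2 hn
      refine (eq_of_le_of_card_ge h1 (Nat.le_of_mul_le_mul_left (h2.trans (le_of_eq ?_)) two_pos)).symm
      rw [two_mul_nat_card_alternatingGroup, Nat.card_perm, Nat.card_fin]
    have hf : s.f.range = alternatingGroup (Fin d) :=
      hcard _ _ (by omega) hbigf (by rw [← index_ker, s.ker, hidx])
    have hr' : rB.range = alternatingGroup (Fin (d - 1)) := by
      refine hcard _ _ (by omega) ?_ ?_
      · exact hrBA.trans (by rintro _ ⟨y, -, rfl⟩; exact ⟨y, rfl⟩)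
      · have hk : rB.ker = B.subgroupOf (H ⊓ K) := by ext x; simp [hrB, mem_subgroupOf]
        have h1 := card_mul_index (B.subgroupOf (H ⊓ K))
        rw [Nat.card_congr (subgroupOfEquivOfLe hBD).toEquiv, ← hk, index_ker, c.card_kern] at h1
        have h2 := card_mul_index ((H ⊓ K).subgroupOf H)
        rw [Nat.card_congr (subgroupOfEquivOfLe (inf_le_left : H ⊓ K ≤ H)).toEquiv, c.index, ← h1]
          at h2
        have h3 := card_mul_index (core₁ H K)
        rw [← card_map_of_injective H.subtype_injective] at h3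
        change Nat.card A * _ = _ at h3
        have h4 : Nat.card rB.range * d = (core₁ H K).index :=
          Nat.eq_of_mul_eq_mul_left (Nat.card_pos (α := A)) (by rw [← mul_assoc, h2, h3])
        rw [← Nat.mul_factorial_pred (show d ≠ 0 by omega), ← h4] at hidx
        exact le_of_eq (Nat.eq_of_mul_eq_mul_left (show 0 < d by omega) (by linarith))
    rintro _ ⟨h, rfl⟩
    exact Subgroup.mem_prod.2 ⟨hf.le ⟨h, rfl⟩, hr'.le ⟨sec h, rfl⟩⟩
  · intro hidx
    have hf : s.f.range = ⊤ := eq_top_of_card_eq _ (by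
      rw [← index_ker, s.ker, hidx, Nat.card_perm, Nat.card_fin])
    refine ⟨fun σ => ?_, fun τ => ?_⟩
    · obtain ⟨h, hh⟩ := hf.ge (mem_top σ)
      exact ⟨h, hh⟩
    · have hk : rB.ker = B.subgroupOf (H ⊓ K) := by ext x; simp [hrB, mem_subgroupOf]
      have htop : rB.range = ⊤ := by
        refine eq_top_of_card_eq _ ?_
        have h1 := card_mul_index (B.subgroupOf (H ⊓ K))
        rw [Nat.card_congr (subgroupOfEquivOfLe hBD).toEquiv, ← hk, index_ker, c.card_kern] at h1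
        have h2 := card_mul_index ((H ⊓ K).subgroupOf H)
        rw [Nat.card_congr (subgroupOfEquivOfLe (inf_le_left : H ⊓ K ≤ H)).toEquiv, c.index, ← h1]
          at h2
        have h3 := card_mul_index (core₁ H K)
        rw [← card_map_of_injective H.subtype_injective] at h3
        change Nat.card A * _ = _ at h3
        have h4 : Nat.card rB.range * d = (core₁ H K).index :=
          Nat.eq_of_mul_eq_mul_left (Nat.card_pos (α := A)) (by rw [← mul_assoc, h2, h3])
        rw [hidx, ← Nat.mul_factorial_pred (show d ≠ 0 by omega)] at h4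
        rw [Nat.card_perm, Nat.card_fin]
        exact Nat.eq_of_mul_eq_mul_left (show 0 < d by omega) (by linarith)
      obtain ⟨x, hx⟩ := htop.ge (mem_top τ)
      exact ⟨⟨x, x.2.1⟩, (hψD x).trans hx⟩

end Conf

/-- The possible subgroups of `Sym m × Sym n` containing `Alt m × Alt n` with both projections onto. -/
theorem prod_range_cases {m n : ℕ} (hn : 2 ≤ n) {R : Subgroup (Perm (Fin m) × Perm (Fin n))}
    (hR : (alternatingGroup (Fin m)).prod (alternatingGroup (Fin n)) ≤ R)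
    (h1 : ∀ σ, ∃ x ∈ R, x.1 = σ) (h2 : ∀ τ, ∃ x ∈ R, x.2 = τ) :
    R = ⊤ ∨ R = ((Perm.sign.comp (MonoidHom.fst (Perm (Fin m)) (Perm (Fin n)))) *
      (Perm.sign.comp (MonoidHom.snd (Perm (Fin m)) (Perm (Fin n))))).ker := by
  by_cases hall : ∀ x ∈ R, Perm.sign x.1 = Perm.sign x.2
  · right
    refine le_antisymm (fun x hx => ?_) fun x hx => ?_
    · simp [MonoidHom.mem_ker, hall x hx]
    · obtain ⟨y, hy, hy1⟩ := h1 x.1
      have hs : Perm.sign x.1 = Perm.sign x.2 := by
        rw [MonoidHom.mem_ker, MonoidHom.mul_apply, mul_eq_one_iff_eq_inv] at hx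
        simpa [Int.units_inv_eq_self] using hx
      have hm : ((1 : Perm (Fin m)), y.2⁻¹ * x.2) ∈ R := by
        refine hR (Subgroup.mem_prod.2 ⟨one_mem _, ?_⟩)
        simp [Perm.mem_alternatingGroup, ← hall y hy, hy1, hs]
      have := mul_mem hy hm
      convert this using 1
      exact Prod.ext (by simp [hy1]) (by simp)
  · left
    push Not at hall
    obtain ⟨x, hx, hne⟩ := hall
    -- an element `(1, odd)`
    obtain ⟨ρ, hρR, hρ⟩ : ∃ ρ, ((1 : Perm (Fin m)), ρ) ∈ R ∧ Perm.sign ρ = -1 := by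
      have key : ∀ y ∈ R, Perm.sign y.1 = 1 → Perm.sign y.2 = -1 →
          ∃ ρ, ((1 : Perm (Fin m)), ρ) ∈ R ∧ Perm.sign ρ = -1 := fun y hy hy1 hy2 => by
        refine ⟨y.2, ?_, hy2⟩
        have := mul_mem (hR (show ((y.1⁻¹, 1) : Perm (Fin m) × Perm (Fin n)) ∈ _ from
          Subgroup.mem_prod.2 ⟨inv_mem (Perm.mem_alternatingGroup.2 hy1), one_mem _⟩)) hy
        convert this using 1
        exact Prod.ext (by simp) (by simp)
      rcases Int.units_eq_one_or (Perm.sign x.1) with hx1 | hx1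
      · exact key x hx hx1 ((Int.units_eq_one_or _).resolve_left fun h => hne (hx1.trans h.symm))
      · have hx2 : Perm.sign x.2 = 1 :=
          (Int.units_eq_one_or _).resolve_right fun h => hne (hx1.trans h.symm)
        haveI : Nontrivial (Fin n) := Fin.nontrivial_iff_two_le.2 hn
        obtain ⟨a, b, hab⟩ := exists_pair_ne (Fin n)
        obtain ⟨y, hy, hy2⟩ := h2 (swap a b)
        rcases Int.units_eq_one_or (Perm.sign y.1) with hy1 | hy1
        · exact key y hy hy1 (by rw [hy2, Perm.sign_swap hab])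
        · exact key (y * x) (mul_mem hy hx) (by simp [hy1, hx1])
            (by simp [hx2, hy2, Perm.sign_swap hab])
    rw [eq_top_iff]
    intro z _
    obtain ⟨y, hy, hy1⟩ := h1 z.1
    by_cases hs : Perm.sign (y.2⁻¹ * z.2) = 1
    · have := mul_mem hy (hR (show ((1, y.2⁻¹ * z.2) : Perm (Fin m) × Perm (Fin n)) ∈ _ from
        Subgroup.mem_prod.2 ⟨one_mem _, Perm.mem_alternatingGroup.2 hs⟩))
      convert this using 1
      exact Prod.ext (by simp [hy1]) (by simp)
    · have hs' : Perm.sign (ρ⁻¹ * (y.2⁻¹ * z.2)) = 1 := by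
        rw [map_mul, map_inv, hρ, (Int.units_eq_one_or _).resolve_left hs]
        decide
      have := mul_mem (mul_mem hy hρR) (hR (show
        ((1, ρ⁻¹ * (y.2⁻¹ * z.2)) : Perm (Fin m) × Perm (Fin n)) ∈ _ from
          Subgroup.mem_prod.2 ⟨one_mem _, Perm.mem_alternatingGroup.2 hs'⟩))
      convert this using 1
      exact Prod.ext (by simp [hy1]) (by simp [mul_assoc])

end CfsgLib.Sims60
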