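import Cfsg.Agent.Sims60.Basic
import Cfsg.Agent.Sims60.AltBig

/-!
# Knapp's theorem on suborbits with alternating or symmetric constituent

`H` and `K` are conjugate stabilisers, `A` and `B` the kernels on the cosets of `H ⊓ K`.  If the
constituent of `H` contains the alternating group and `A ≠ 1`, then `A ⊓ B = 1` and `H` embeds in
`Sym d × Sym (d-1)` with image containing `Alt d × Alt (d-1)`.
-/

set_option autoImplicit false

namespace CfsgLib.Sims60

open Cfsg Subgroup Equiv
open CfsgLib.ThompsonWielandt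

variable {G : Type*} [Group G]

/-- The kernel of `H` on the cosets of `H ⊓ K`, in the ambient group. -/
def kern (H K : Subgroup G) : Subgroup G := (core₁ H K).map H.subtype

theorem coe_mem_kern_iff {H K : Subgroup G} (x : H) : (x : G) ∈ kern H K ↔ x ∈ core₁ H K :=
  ⟨fun ⟨_, hy, hyx⟩ => Subtype.ext hyx ▸ hy, fun h => ⟨x, h, rfl⟩⟩

theorem le_normalizer_kern (H K : Subgroup G) : H ≤ normalizer (kern H K : Set G) :=
  haveI : (core₁ H K).Normal := normalCore_normal _
  le_normalizer_map_normal _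

theorem conj_mem_kern {H K : Subgroup G} {a t : G} (ha : a ∈ kern H K) (ht : t ∈ H) :
    t * a * t⁻¹ ∈ kern H K :=
  (mem_normalizer_iff.1 (le_normalizer_kern H K ht) a).1 ha

theorem conj_mem_kern' {H K : Subgroup G} {a t : G} (ha : a ∈ kern H K) (ht : t ∈ H) :
    t⁻¹ * a * t ∈ kern H K := by
  simpa using conj_mem_kern ha (inv_mem ht)

/-- The action of `H` on the cosets of `H ⊓ K`. -/
structure PreSide (H K : Subgroup G) (d : ℕ) where
  f : H →* Perm (Fin d)
  o : Fin d
  ker : f.ker = core₁ H K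
  stab : ∀ h : H, f h o = o ↔ (h : G) ∈ K
  trans : ∀ j, ∃ t : H, f t o = j

theorem exists_preSide [Finite G] {H K : Subgroup G} {d : ℕ}
    (hd : ((H ⊓ K).subgroupOf H).index = d) : Nonempty (PreSide H K d) := by
  obtain e : (H ⧸ (H ⊓ K).subgroupOf H) ≃ Fin d :=
    Finite.equivFinOfCardEq (by rw [← index_eq_card, hd])
  set g := (e.permCongrHom : Perm (H ⧸ (H ⊓ K).subgroupOf H) ≃* Perm (Fin d)).toMonoidHom.comp
    (MulAction.toPermHom H (H ⧸ (H ⊓ K).subgroupOf H))
  have happ : ∀ (h : H) q, g h (e q) = e (h • q) := fun h q => by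
    simp [g, Equiv.permCongrHom, Equiv.permCongr_apply]
  refine ⟨⟨g, e (QuotientGroup.mk 1), ?_, fun h => ?_, fun j => ?_⟩⟩
  · rw [core₁, normalCore_eq_ker]
    ext x
    simp only [MonoidHom.mem_ker]
    exact (e.permCongrHom : Perm (H ⧸ (H ⊓ K).subgroupOf H) ≃* Perm (Fin d)).map_eq_one_iff
  · rw [happ, e.injective.eq_iff, MulAction.Quotient.smul_mk, QuotientGroup.eq]
    simp [mem_subgroupOf]
  · obtain ⟨h, hh⟩ := QuotientGroup.mk_surjective (e.symm j)
    exact ⟨h, by rw [happ, MulAction.Quotient.smul_mk, smul_eq_mul, mul_one, hh, e.apply_symm_apply]⟩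

variable {H K : Subgroup G} {d : ℕ}

namespace PreSide

variable (s : PreSide H K d)

theorem f_eq_one {h : H} : s.f h = 1 ↔ (h : G) ∈ kern H K := by
  rw [coe_mem_kern_iff, ← s.ker, MonoidHom.mem_ker]

theorem exists_stabHom : ∃ r : ↥(H ⊓ K) →* Perm (Fin (d - 1)),
    (∀ x, r x = 1 ↔ (x : G) ∈ kern H K) ∧
    (alternatingGroup (Fin d) ≤ s.f.range → alternatingGroup (Fin (d - 1)) ≤ r.range) := by
  classical
  have hfix : ∀ x : ↥(H ⊓ K), s.f ⟨x, x.2.1⟩ s.o = s.o := fun x => (s.stab _).2 x.2.2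
  obtain e : {y : Fin d // y ≠ s.o} ≃ Fin (d - 1) :=
    Fintype.equivFinOfCardEq (by simp)
  have hmem : ∀ (x : ↥(H ⊓ K)) (y : Fin d), s.f ⟨x, x.2.1⟩ y ≠ s.o ↔ y ≠ s.o := fun x y => by
    conv_lhs => rw [← hfix x]
    exact (s.f ⟨x, x.2.1⟩).injective.ne_iff
  let r : ↥(H ⊓ K) →* Perm (Fin (d - 1)) := MonoidHom.mk'
    (fun x => e.permCongr ((s.f ⟨x, x.2.1⟩).subtypePerm (hmem x)))
    (fun x y => by
      refine Equiv.ext fun z => e.symm.injective (Subtype.ext ?_)
      have h : (⟨((x * y : ↥(H ⊓ K)) : G), (x * y).2.1⟩ : H) = ⟨x, x.2.1⟩ * ⟨y, y.2.1⟩ := rfl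
      simp [Equiv.permCongr_apply]
      rw [← Perm.mul_apply, ← map_mul]
      rfl)
  have happ : ∀ (x : ↥(H ⊓ K)) (y : {y : Fin d // y ≠ s.o}),
      ((e.symm (r x (e y))) : Fin d) = s.f ⟨x, x.2.1⟩ y := fun x y => by
    simp [r, Equiv.permCongr_apply]
  refine ⟨r, fun x => ?_, fun hbig τ hτ => ?_⟩
  · rw [show ((x : G) ∈ kern H K) ↔ s.f ⟨x, x.2.1⟩ = 1 from (s.f_eq_one (h := ⟨x, x.2.1⟩)).symm]
    constructor
    · intro h
      ext y
      by_cases hy : y = s.o
      · rw [hy, hfix]; rfl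
      · have := happ x ⟨y, hy⟩
        rw [h] at this
        simpa using congrArg Fin.val this.symm
    · intro h
      refine Equiv.ext fun z => ?_
      obtain ⟨y, rfl⟩ := e.surjective z
      refine e.symm.injective (Subtype.ext ?_)
      rw [happ, h]
      simp
  · set σ : Perm (Fin d) := Perm.ofSubtype (e.symm.permCongr τ)
    have hσ : σ ∈ s.f.range := hbig (by
      rw [Perm.mem_alternatingGroup, Perm.sign_ofSubtype, Perm.sign_permCongr]
      exact Perm.mem_alternatingGroup.1 hτ)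
    obtain ⟨h, hh⟩ := hσ
    have ho : σ s.o = s.o := Perm.ofSubtype_apply_of_not_mem _ (by simp)
    refine ⟨⟨h, h.2, (s.stab h).1 (hh ▸ ho)⟩, Equiv.ext fun z => ?_⟩
    obtain ⟨y, rfl⟩ := e.surjective z
    refine e.symm.injective (Subtype.ext ?_)
    rw [happ]
    simp only [Subtype.coe_eta, hh, σ]
    rw [Perm.ofSubtype_apply_of_mem (p := fun z => z ≠ s.o) _ y.2]
    simp [Equiv.permCongr_apply]

/-- An element moving `s.o` generates `H` together with `H ⊓ K`. -/
theorem le_of_mem (hbig : alternatingGroup (Fin d) ≤ s.f.range) (hd : 4 ≤ d) {M : Subgroup G}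
    (hDM : H ⊓ K ≤ M) {t : H} (ht : (t : G) ∉ K) (htM : (t : G) ∈ M) : H ≤ M := by
  intro h hh
  by_cases hK : h ∈ K
  · exact hDM ⟨hh, hK⟩
  obtain ⟨σ, hσ, h1, h2⟩ := exists_alt_move hd (o := s.o)
    (mt (s.stab t).1 ht) (mt (s.stab ⟨h, hh⟩).1 hK)
  obtain ⟨x, rfl⟩ := hbig hσ
  have hy : ((x * t)⁻¹ * ⟨h, hh⟩ : H).1 ∈ K := by
    rw [← s.stab]
    simp only [map_mul, map_inv, mul_inv_rev, Perm.mul_apply]
    rw [← h2, Perm.inv_eq_iff_eq.2 rfl, Perm.inv_eq_iff_eq.2 rfl]
  have hxM : (x : G) ∈ M := hDM ⟨x.2, (s.stab x).1 h1⟩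
  have := mul_mem (mul_mem hxM htM) (hDM ⟨((x * t)⁻¹ * ⟨h, hh⟩ : H).2, hy⟩)
  simpa [mul_assoc] using this

/-- `a` acts trivially on the cosets of `H ⊓ K` in `K`, seen from the point `j`. -/
def Killed (j : Fin d) (a : G) : Prop :=
  ∀ t : H, s.f t s.o = j → (t : G)⁻¹ * a * t ∈ kern K H

theorem killed_iff {t : H} {j : Fin d} (ht : s.f t s.o = j) {a : G} :
    s.Killed j a ↔ (t : G)⁻¹ * a * t ∈ kern K H := by
  refine ⟨fun h => h t ht, fun h u hu => ?_⟩
  have hx : ((u⁻¹ * t : H) : G) ∈ K := by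
    rw [← s.stab]
    simp [Perm.mul_apply, ht, ← hu]
  have := conj_mem_kern h hx
  simpa [mul_assoc] using this

theorem killed_o {a : G} : s.Killed s.o a ↔ a ∈ kern K H := by
  simp [s.killed_iff (t := 1) (j := s.o) (by simp)]

theorem killed_conj (h : H) {j : Fin d} {a : G} :
    s.Killed (s.f h j) ((h : G) * a * (h : G)⁻¹) ↔ s.Killed j a := by
  obtain ⟨t, ht⟩ := s.trans j
  rw [s.killed_iff ht, s.killed_iff (t := h * t) (by rw [map_mul, Perm.mul_apply, ht])]
  simp [mul_assoc]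

theorem killed_mul {j : Fin d} {a b : G} (ha : s.Killed j a) (hb : s.Killed j b) :
    s.Killed j (a * b) := fun t ht => by
  simpa [mul_assoc] using mul_mem (ha t ht) (hb t ht)

theorem killed_inv {j : Fin d} {a : G} (ha : s.Killed j a) : s.Killed j a⁻¹ := fun t ht => by
  simpa [mul_assoc] using inv_mem (ha t ht)

theorem mem_core₂ {a : H} (ha : (a : G) ∈ kern H K) (h : ∀ j, s.Killed j (a : G)) :
    a ∈ core₂ H K := by
  intro n
  refine ⟨?_, ?_⟩
  · exact (normalCore_normal _ : (core₁ H K).Normal).conj_mem a ((coe_mem_kern_iff a).1 ha) n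
  · have := (h (s.f n⁻¹ s.o)) n⁻¹ rfl
    simpa [mem_subgroupOf, kern, mul_assoc] using this

theorem eq_one_of_killed (h2 : core₂ H K = ⊥) {a : G} (ha : a ∈ kern H K)
    (h : ∀ j, s.Killed j a) : a = 1 := by
  have haH : a ∈ H := (core₁_map_le H K ha).1
  have hm := s.mem_core₂ (a := ⟨a, haH⟩) ha h
  rw [h2, mem_bot] at hm
  exact congrArg Subtype.val hm

/-- The homomorphism to `Sym (d-1)` seen from the point `f t o`. -/
theorem exists_pull (r : ↥(K ⊓ H) →* Perm (Fin (d - 1)))
    (hr : ∀ x, r x = 1 ↔ (x : G) ∈ kern K H) {X : Type*} [Group X] (ι : X →* G)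
    (hι : ∀ x, ι x ∈ kern H K) (j : Fin d) :
    ∃ ρ : X →* Perm (Fin (d - 1)), ∀ x, ρ x = 1 ↔ s.Killed j (ι x) := by
  obtain ⟨t, ht⟩ := s.trans j
  have hmem : ∀ x, (t : G)⁻¹ * ι x * t ∈ K ⊓ H := fun x =>
    (inf_comm H K).le (core₁_map_le H K (conj_mem_kern' (hι x) t.2))
  refine ⟨MonoidHom.mk' (fun x => r ⟨_, hmem x⟩) (fun x y => ?_), fun x => ?_⟩
  · rw [← map_mul]
    congr 1
    exact Subtype.ext (by simp [mul_assoc])
  · rw [s.killed_iff ht]
    exact hr _

end PreSide

theorem false_of_ker_le (hd : 3 ≤ d) {X : Type*} [Group X] [Finite X] (φ : X →* Perm (Fin d))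
    (hφ : alternatingGroup (Fin d) ≤ φ.range) (ρ : X →* Perm (Fin (d - 1)))
    (h : ρ.ker ≤ φ.ker) : False := by
  have h1 : Nat.card φ.range ≤ Nat.card ρ.range := by
    rw [← index_ker, ← index_ker]
    exact Nat.le_of_dvd (Nat.pos_of_ne_zero index_ne_zero_of_finite) (index_dvd_of_le h)
  have h2 : Nat.card ρ.range ≤ Nat.factorial (d - 1) := by
    refine (Nat.le_of_dvd Nat.card_pos (card_subgroup_dvd_card ρ.range)).trans (le_of_eq ?_)
    rw [Nat.card_perm, Nat.card_fin]
  have h3 := factorial_le_two_mul (by omega) hφ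
  rw [← Nat.mul_factorial_pred (show d ≠ 0 by omega)] at h3
  nlinarith [Nat.factorial_pos (d - 1)]

theorem alt_not_comm {n : ℕ} (hn : 5 ≤ n)
    (h : ∀ σ ∈ alternatingGroup (Fin n), ∀ τ ∈ alternatingGroup (Fin n), σ * τ = τ * σ) : False := by
  have hle : alternatingGroup (Fin n) ≤ centralizer (alternatingGroup (Fin n) : Set (Perm (Fin n))) :=
    fun σ hσ => mem_centralizer_iff.2 fun τ hτ => h τ hτ σ hσ
  rw [centralizer_alternating (by omega), le_bot_iff] at hle
  haveI : Nontrivial (Fin n) := Fin.nontrivial_iff_two_le.2 (by omega)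
  haveI : Nontrivial (alternatingGroup (Fin n)) :=
    alternatingGroup.nontrivial_of_three_le_card (by rw [Nat.card_fin]; omega)
  exact (nontrivial_iff_ne_bot _).1 inferInstance hle

theorem center_alt_trivial {n : ℕ} (hn : 5 ≤ n) {R : Subgroup (Perm (Fin n))}
    (hR : alternatingGroup (Fin n) ≤ R) : center R = ⊥ := by
  rw [eq_bot_iff_forall]
  intro x hx
  have : (x : Perm (Fin n)) ∈ centralizer (alternatingGroup (Fin n) : Set (Perm (Fin n))) :=
    mem_centralizer_iff.2 fun a ha => congrArg Subtype.val (mem_center_iff.1 hx ⟨a, hR ha⟩)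
  rw [centralizer_alternating (by omega), mem_bot] at this
  exact Subtype.ext this

variable [Finite G]

theorem pCoreOf_le_kern (hd : 6 ≤ d) (s : PreSide H K d)
    (hbig : alternatingGroup (Fin d) ≤ s.f.range) (q : ℕ) [Fact q.Prime] :
    pCoreOf q (H ⊓ K) ≤ kern H K := by
  obtain ⟨r, hr, hrange⟩ := s.exists_stabHom
  haveI : (pCore q ↥(H ⊓ K)).Normal := LocalStructure.pCore_normal
  rcases map_eq_bot_or_le (n := d - 1) (by omega) r (hrange hbig) (pCore q ↥(H ⊓ K)) with h | h
  · rintro x ⟨y, hy, rfl⟩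
    exact (hr y).1 (MonoidHom.mem_ker.1 (h hy))
  · exfalso
    have hp : IsPGroup q (alternatingGroup (Fin (d - 1))) :=
      (LocalStructure.pCore_isPGroup.map r).to_le h
    haveI : Nontrivial (Fin (d - 1)) := Fin.nontrivial_iff_two_le.2 (by omega)
    haveI : Nontrivial (alternatingGroup (Fin (d - 1))) :=
      alternatingGroup.nontrivial_of_three_le_card (by rw [Nat.card_fin]; omega)
    exact (nontrivial_iff_ne_bot _).1 hp.center_nontrivial (center_alt_trivial (by omega) le_rfl)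

/-- The standing hypotheses. -/
structure Conf (H K : Subgroup G) (d : ℕ) : Prop where
  iso : ∃ e : H ≃* K, (core₁ H K).map e.toMonoidHom = core₁ K H
  ne : H ≠ K
  hH : ∀ S : Subgroup G, S ≤ H → S ≠ ⊥ → H ≤ normalizer (S : Set G) → normalizer (S : Set G) ≤ H
  hK : ∀ S : Subgroup G, S ≤ K → S ≠ ⊥ → K ≤ normalizer (S : Set G) → normalizer (S : Set G) ≤ K
  six : 6 ≤ d
  index : ((H ⊓ K).subgroupOf H).index = d
  index' : ((K ⊓ H).subgroupOf K).index = d
  big : Nat.factorial d ≤ 2 * (core₁ H K).index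
  kern_ne : kern H K ≠ ⊥
  cores : core₂ H K = ⊥ ∨ core₂ K H = ⊥

omit [Finite G] in
theorem range_big_of_index (hd : 2 ≤ d) (s : PreSide H K d)
    (h : Nat.factorial d ≤ 2 * (core₁ H K).index) : alternatingGroup (Fin d) ≤ s.f.range := by
  refine le_of_factorial_le hd ?_
  rwa [← index_ker, s.ker]

theorem exists_conf (e : H ≃* K) (hne : H ≠ K)
    (hH : ∀ S : Subgroup G, S ≤ H → S ≠ ⊥ → H ≤ normalizer (S : Set G) →
      normalizer (S : Set G) ≤ H)
    (hK : ∀ S : Subgroup G, S ≤ K → S ≠ ⊥ → K ≤ normalizer (S : Set G) →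
      normalizer (S : Set G) ≤ K)
    (hd : 6 ≤ d) (hi : ((H ⊓ K).subgroupOf H).index = d)
    (hi' : ((K ⊓ H).subgroupOf K).index = d)
    (hbig : Nat.factorial d ≤ 2 * (core₁ H K).index) (hA : kern H K ≠ ⊥) : Conf H K d := by
  obtain ⟨s⟩ := exists_preSide hi
  obtain ⟨s'⟩ := exists_preSide hi'
  have hbigf := range_big_of_index (by omega) s hbig
  have hpc : ∀ q : ℕ, q.Prime → pCoreOf q (H ⊓ K) = ⊥ := fun q hq =>
    haveI := Fact.mk hq; pCoreOf_inf_eq_bot e hne hH (pCoreOf_le_kern hd s hbigf q)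
  have hcores : core₂ H K = ⊥ ∨ core₂ K H = ⊥ := by
    by_contra hb
    rw [not_or] at hb
    have mk : ∀ H K : Subgroup G, (∀ S : Subgroup G, S ≤ H → S ≠ ⊥ → H ≤ normalizer (S : Set G) →
        normalizer (S : Set G) ≤ H) → core₂ H K ≠ ⊥ →
        Half H K ((core₂ H K).map H.subtype) ((core₁ K H).map K.subtype) := by
      intro H K hH h
      haveI : (core₂ H K).Normal := normalCore_normal _
      haveI : (core₁ K H).Normal := normalCore_normal _
      exact ⟨hH, le_normalizer_map_normal _,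
        fun hb => h ((map_eq_bot_iff_of_injective _ H.subtype_injective).1 hb), core₂_map_le H K,
        (core₁_map_le K H).trans (inf_comm _ _).le, le_normalizer_map_normal _,
        fun x hx hn => ⟨⟨x, hx⟩, fun n => ⟨(n * (⟨x, hx⟩ : K) * n⁻¹).2, hn n n.2⟩, rfl⟩⟩
    obtain ⟨p, hp, hpg, -⟩ := main (mk H K hH hb.1) (mk K H hK hb.2) hne e
    haveI := Fact.mk hp
    haveI : (core₂ H K).Normal := normalCore_normal _
    refine hb.1 ((map_eq_bot_iff_of_injective _ H.subtype_injective).1 (le_bot_iff.1 ?_))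
    exact (LocalStructure.le_pCoreOf (le_inf (map_subtype_le _)
      ((core₂_map_le H K).trans (map_subtype_le _))) (inf_le_left.trans (le_normalizer_map_normal _))
      (hpg.to_le le_sup_left)).trans (hpc p hp).le
  haveI hn1 : (core₁ H K).Normal := normalCore_normal _
  haveI hn1' : (core₁ K H).Normal := normalCore_normal _
  have hle : (core₁ K H).map e.symm.toMonoidHom ≤ core₁ H K := by
    haveI : ((core₁ K H).map e.symm.toMonoidHom).Normal := hn1'.map _ e.symm.surjective
    rcases map_eq_bot_or_le (by omega) s.f hbigf ((core₁ K H).map e.symm.toMonoidHom) with h | h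
    · rwa [s.ker] at h
    exfalso
    obtain ⟨r, hr, -⟩ := s.exists_stabHom
    obtain ⟨r', hr', -⟩ := s'.exists_stabHom
    set φ : core₁ K H →* Perm (Fin d) :=
      s.f.comp (e.symm.toMonoidHom.comp (core₁ K H).subtype)
    have hφ : alternatingGroup (Fin d) ≤ φ.range := by
      refine h.trans ?_
      rintro _ ⟨_, ⟨x, hx, rfl⟩, rfl⟩
      exact ⟨⟨x, hx⟩, rfl⟩
    set ι : core₁ K H →* G := K.subtype.comp (core₁ K H).subtype
    have hι : ∀ x, ι x ∈ kern K H := fun x => ⟨(x : K), x.2, rfl⟩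
    rcases hcores with h2 | h2
    · set ρ₀ : core₁ K H →* Perm (Fin (d - 1)) := r.comp (ι.codRestrict (H ⊓ K) fun x =>
        (inf_comm K H).le (core₁_map_le K H (hι x)))
      rcases map_eq_bot_or_le (by omega) φ hφ ρ₀.ker with h3 | h3
      · exact false_of_ker_le (by omega) φ hφ ρ₀ h3
      · set φ₁ : ρ₀.ker →* Perm (Fin d) := φ.comp ρ₀.ker.subtype
        have hφ₁ : alternatingGroup (Fin d) ≤ φ₁.range := by
          refine h3.trans ?_
          rintro _ ⟨x, hx, rfl⟩
          exact ⟨⟨x, hx⟩, rfl⟩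
        have hι₁ : ∀ x : ρ₀.ker, ι x ∈ kern H K := fun x => (hr _).1 (MonoidHom.mem_ker.1 x.2)
        choose ρ hρ using fun j => s.exists_pull r' hr' (ι.comp ρ₀.ker.subtype) hι₁ j
        obtain ⟨j, hj⟩ := exists_le_ker (by omega) φ₁ hφ₁ (fun j => (ρ j).ker)
          (fun j => inferInstance) fun x hx => Subtype.ext (Subtype.ext (Subtype.ext
            (s.eq_one_of_killed h2 (hι₁ x) fun j => (hρ j x).1 (hx j))))
        exact false_of_ker_le (by omega) φ₁ hφ₁ (ρ j) hj
    · choose ρ hρ using fun j => s'.exists_pull r hr ι hι j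
      obtain ⟨j, hj⟩ := exists_le_ker (by omega) φ hφ (fun j => (ρ j).ker)
        (fun j => inferInstance) fun x hx => Subtype.ext (Subtype.ext
          (s'.eq_one_of_killed h2 (hι x) fun j => (hρ j x).1 (hx j)))
      exact false_of_ker_le (by omega) φ hφ (ρ j) hj
  refine ⟨⟨e, ?_⟩, hne, hH, hK, hd, hi, hi', hbig, hA, hcores⟩
  by_cases heq : (core₁ K H).map e.symm.toMonoidHom = core₁ H K
  · rw [← heq, Subgroup.map_map]
    convert Subgroup.map_id (core₁ K H) using 2
    ext x
    simp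
  exfalso
  -- otherwise the kernels have index `2` and `Sym d` would have a normal subgroup of order `2`
  set B := (core₁ K H).map e.symm.toMonoidHom
  have hBidx : B.index = (core₁ K H).index := index_map_equiv _ e.symm
  have hup : (core₁ K H).index ≤ Nat.factorial d := by
    refine Nat.le_of_dvd (Nat.factorial_pos d) ?_
    exact hi' ▸ index_normalCore_dvd _
  have hmul : B.relIndex (core₁ H K) * (core₁ H K).index = B.index := relIndex_mul_index hle
  have hne1 : B.relIndex (core₁ H K) ≠ 1 := fun h1 =>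
    heq (le_antisymm hle (relIndex_eq_one.1 h1))
  have hne0 : B.relIndex (core₁ H K) ≠ 0 := index_ne_zero_of_finite
  have h2le : 2 ≤ B.relIndex (core₁ H K) := by omega
  have htop : (core₁ K H).index = Nat.factorial d := by nlinarith
  have hrel : B.relIndex (core₁ H K) = 2 := by nlinarith [Nat.factorial_pos d]
  have hsurj : s'.f.range = ⊤ := by
    refine eq_top_of_card_eq _ ?_
    rw [← index_ker, s'.ker, htop, Nat.card_perm, Nat.card_fin]
  set N : Subgroup (Perm (Fin d)) := ((core₁ H K).map e.toMonoidHom).map s'.f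
  haveI : ((core₁ H K).map e.toMonoidHom).Normal := hn1.map _ e.surjective
  rcases map_eq_bot_or_le (by omega) s'.f (hsurj ▸ le_top) ((core₁ H K).map e.toMonoidHom) with h | h
  · rw [s'.ker] at h
    refine heq (le_antisymm hle fun x hx => ?_)
    exact ⟨e x, h ⟨x, hx, rfl⟩, e.symm_apply_apply x⟩
  · have hc : Nat.card N ≤ 2 := by
      rw [← hrel]
      have : B.subgroupOf (core₁ H K) ≤
          (s'.f.comp (e.toMonoidHom.comp (core₁ H K).subtype)).ker := by
        intro x hx
        obtain ⟨y, hy, hyx⟩ := mem_subgroupOf.1 hx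
        rw [MonoidHom.mem_ker, MonoidHom.comp_apply, MonoidHom.comp_apply, coe_subtype, ← hyx]
        simpa using MonoidHom.mem_ker.1 (s'.ker.ge hy)
      refine le_trans (le_of_eq ?_) (Nat.le_of_dvd (Nat.pos_of_ne_zero hne0) (index_dvd_of_le this))
      rw [index_ker, MonoidHom.range_comp, MonoidHom.range_comp, range_subtype]
    have h3 := factorial_le_two_mul (by omega) h
    have h5 : 5 ≤ Nat.factorial d := le_trans (by omega) (Nat.self_le_factorial d)
    change Nat.factorial d ≤ 2 * Nat.card N at h3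
    omega

namespace Conf

variable (c : Conf H K d)
include c

theorem card_kern : Nat.card (kern K H) = Nat.card (kern H K) := by
  obtain ⟨e, he⟩ := c.iso
  rw [kern, kern, card_map_of_injective K.subtype_injective,
    card_map_of_injective H.subtype_injective, ← he, card_map_of_injective e.injective]

theorem symm : Conf K H d := by
  obtain ⟨e, he⟩ := c.iso
  refine ⟨⟨e.symm, ?_⟩, c.ne.symm, c.hK, c.hH, c.six, c.index', c.index, ?_, ?_, c.cores.symm⟩
  · rw [← he, Subgroup.map_map]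
    convert Subgroup.map_id (core₁ H K) using 2
    ext x
    simp
  · rw [← he, show ((core₁ H K).map e.toMonoidHom).index = _ from index_map_equiv _ e]
    exact c.big
  · intro h
    refine c.kern_ne ((eq_bot_iff_card _).2 ?_)
    rw [← c.card_kern, h, card_bot]

theorem range_big (s : PreSide H K d) : alternatingGroup (Fin d) ≤ s.f.range :=
  range_big_of_index (by have := c.six; omega) s c.big

theorem exists_stabHom (s : PreSide H K d) : ∃ r : ↥(H ⊓ K) →* Perm (Fin (d - 1)),
    (∀ x, r x = 1 ↔ (x : G) ∈ kern H K) ∧ alternatingGroup (Fin (d - 1)) ≤ r.range :=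
  let ⟨r, h1, h2⟩ := s.exists_stabHom
  ⟨r, h1, h2 (c.range_big s)⟩

theorem kern_not_le : ¬ kern K H ≤ kern H K := fun h => by
  have heq : kern K H = kern H K := eq_of_le_of_card_ge h c.card_kern.ge
  have h1 := c.hH _ ((core₁_map_le H K).trans inf_le_left) c.kern_ne (le_normalizer_kern H K)
  have h2 := c.hK _ ((core₁_map_le K H).trans inf_le_left) c.symm.kern_ne (le_normalizer_kern K H)
  have hle : K ≤ H := (le_normalizer_kern K H).trans ((heq ▸ le_refl _ :
    normalizer (kern K H : Set G) ≤ normalizer (kern H K : Set G)).trans h1)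
  have hle' : H ≤ K := (le_normalizer_kern H K).trans ((heq ▸ le_refl _ :
    normalizer (kern H K : Set G) ≤ normalizer (kern K H : Set G)).trans h2)
  exact c.ne (le_antisymm hle' hle)

/-- The image of the other kernel contains the alternating group. -/
theorem alt_le_map (r : ↥(H ⊓ K) →* Perm (Fin (d - 1))) (hr : ∀ x, r x = 1 ↔ (x : G) ∈ kern H K)
    (hbig : alternatingGroup (Fin (d - 1)) ≤ r.range) :
    alternatingGroup (Fin (d - 1)) ≤ ((kern K H).subgroupOf (H ⊓ K)).map r := by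
  have hd := c.six
  haveI : ((kern K H).subgroupOf (H ⊓ K)).Normal :=
    (normal_subgroupOf_iff_le_normalizer ((core₁_map_le K H).trans (inf_comm K H).le)).2
      (inf_le_right.trans (le_normalizer_kern K H))
  refine (map_eq_bot_or_le (by omega) r hbig _).resolve_left fun h => c.kern_not_le fun x hx => ?_
  exact (hr ⟨x, (inf_comm K H).le (core₁_map_le K H hx)⟩).1 (MonoidHom.mem_ker.1 (h hx))

theorem core₂_eq_bot' (h2 : core₂ H K = ⊥) : core₂ K H = ⊥ := by
  by_contra hne
  have hd := c.six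
  obtain ⟨s⟩ := exists_preSide c.index
  obtain ⟨s'⟩ := exists_preSide c.index'
  obtain ⟨r, hr, hrbig⟩ := c.exists_stabHom s
  obtain ⟨r', hr', hr'big⟩ := c.symm.exists_stabHom s'
  obtain ⟨e, he⟩ := c.iso
  have hex : ∀ x : core₁ H K, ((e x : K) : G) ∈ kern K H := fun x =>
    (coe_mem_kern_iff _).2 (he ▸ ⟨x, x.2, rfl⟩)
  set ι : core₁ H K →* G := H.subtype.comp (core₁ H K).subtype
  have hι : ∀ x, ι x ∈ kern H K := fun x => ⟨(x : H), x.2, rfl⟩
  set ψ : core₁ H K →* Perm (Fin (d - 1)) := r.comp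
    ((K.subtype.comp (e.toMonoidHom.comp (core₁ H K).subtype)).codRestrict (H ⊓ K)
      fun x => (inf_comm K H).le (core₁_map_le K H (hex x)))
  have hψ : alternatingGroup (Fin (d - 1)) ≤ ψ.range := by
    refine (c.alt_le_map r hr hrbig).trans ?_
    rintro _ ⟨y, hy, rfl⟩
    obtain ⟨z, hz, hzy⟩ := mem_subgroupOf.1 hy
    obtain ⟨x, hx, hxz⟩ := he.symm.le hz
    exact ⟨⟨x, hx⟩, congrArg r (Subtype.ext (show ((e x : K) : G) = y by
      rw [← hzy, ← hxz]; rfl))⟩
  haveI : (core₂ K H).Normal := normalCore_normal _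
  haveI hC : ((core₂ K H).map e.symm.toMonoidHom).Normal := Normal.map ‹_› _ e.symm.surjective
  set C := ((core₂ K H).map e.symm.toMonoidHom).subgroupOf (core₁ H K)
  have hCψ : C ≤ ψ.ker := fun x hx => by
    obtain ⟨y, hy, hyx⟩ := mem_subgroupOf.1 hx
    refine MonoidHom.mem_ker.2 ((hr _).2 ?_)
    change ((e x : K) : G) ∈ kern H K
    rw [← hyx]
    simp only [MulEquiv.coe_toMonoidHom, MulEquiv.apply_symm_apply]
    exact core₂_map_le K H ⟨y, hy, rfl⟩
  choose ρ hρ using fun j => s.exists_pull r' hr' ι hι j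
  obtain ⟨j, hj⟩ := exists_le_ker (by omega) ψ hψ (fun j => (ρ j).ker) (fun j => inferInstance)
    fun x hx => Subtype.ext (Subtype.ext (s.eq_one_of_killed h2 (hι x) fun j => (hρ j x).1 (hx j)))
  have hρbig : ∀ σ ∈ (ρ j).range, ∀ τ ∈ (ρ j).range,
      σ * τ * σ⁻¹ * τ⁻¹ ∈ alternatingGroup (Fin (d - 1)) := fun σ _ τ _ => by
    simp [Perm.mem_alternatingGroup, mul_comm, mul_left_comm]
  by_cases hCj : C ≤ (ρ j).ker
  · refine hne ((Subgroup.eq_bot_iff_forall _).2 fun y hy => ?_)
    have hm : e.symm y ∈ (core₂ K H).map e.symm.toMonoidHom := ⟨y, hy, rfl⟩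
    have hkern : ∀ z ∈ (core₂ K H).map e.symm.toMonoidHom, z ∈ core₁ H K := fun z hz => by
      obtain ⟨w, hw, rfl⟩ := hz
      have hw1 : w ∈ core₁ K H := (normalCore_le _ hw).1
      rw [← he] at hw1
      obtain ⟨x, hx, rfl⟩ := hw1
      simpa using hx
    have hk : ∀ i, s.Killed i ((e.symm y : H) : G) := fun i => by
      obtain ⟨t, ht⟩ := s.trans i
      obtain ⟨u, hu⟩ := s.trans j
      set h := t * u⁻¹
      have hh : s.f h j = i := by
        simp [h, Perm.mul_apply, ← hu, ht]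
      have hz : h⁻¹ * e.symm y * h ∈ (core₂ K H).map e.symm.toMonoidHom := by
        simpa using hC.conj_mem _ hm h⁻¹
      have := (hρ j ⟨_, hkern _ hz⟩).1 (MonoidHom.mem_ker.1 (hCj (mem_subgroupOf.2 hz)))
      rw [← s.killed_conj h, hh] at this
      simpa [ι, mul_assoc] using this
    have h1 := s.eq_one_of_killed h2 ((coe_mem_kern_iff _).2 (hkern _ hm)) hk
    simpa using (Subtype.ext h1 : e.symm y = 1)
  · haveI : C.Normal := hC.subgroupOf _
    have hρr : alternatingGroup (Fin (d - 1)) ≤ (ρ j).range := by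
      refine le_of_factorial_le (by omega) ((factorial_le_two_mul (by omega) hψ).trans ?_)
      rw [← index_ker, ← index_ker]
      exact Nat.mul_le_mul_left _
        (Nat.le_of_dvd (Nat.pos_of_ne_zero index_ne_zero_of_finite) (index_dvd_of_le hj))
    have hCbig : alternatingGroup (Fin (d - 1)) ≤ C.map (ρ j) :=
      (map_eq_bot_or_le (by omega) (ρ j) hρr C).resolve_left hCj
    have hker : ∀ x y : core₁ H K, ψ (x * y * x⁻¹ * y⁻¹) = 1 := fun x y => by
      obtain ⟨z, hz, hzeq⟩ := hCbig (by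
        simpa using hρbig _ ⟨x, rfl⟩ _ ⟨y, rfl⟩ : ρ j (x * y * x⁻¹ * y⁻¹) ∈ _)
      have h1 : z⁻¹ * (x * y * x⁻¹ * y⁻¹) ∈ (ρ j).ker := by
        rw [MonoidHom.mem_ker, map_mul, map_inv, hzeq, inv_mul_cancel]
      have h2 := hj h1
      rw [MonoidHom.mem_ker, map_mul, map_inv, MonoidHom.mem_ker.1 (hCψ hz), inv_one, one_mul] at h2
      exact h2
    refine alt_not_comm (n := d - 1) (by omega) fun σ hσ τ hτ => ?_
    obtain ⟨x, rfl⟩ := hψ hσ
    obtain ⟨y, rfl⟩ := hψ hτ
    have := hker x y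
    simp only [map_mul, map_inv, mul_inv_eq_one, mul_inv_eq_iff_eq_mul] at this
    exact this

end Conf

end CfsgLib.Sims60
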